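import Cfsg.Agent.TT.Pt.OutD
import Cfsg.Agent.TT.Pt.Row22c
import Cfsg.Agent.TT.R22Aut
import Cfsg.Agent.TT.LineFi

/-! The outer involutions of a group of type `M(22)` and their centralisers. -/

set_option autoImplicit false
set_option maxRecDepth 100000

namespace Cfsg.Agent.TT.Pt

open Equiv Cfsg.Agent.Comp.BN Subgroup

variable {G : Type*} [Group G] {D : Set G}

theorem ext_row {C : Subgroup G} [Finite C] {H : Type*} [Group H] (f : C →* H)
    (hf : Function.Surjective f) (h1 : ∀ g, f g = 1 → g * g = 1)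
    (h2 : ∀ N : Subgroup H, N.Normal → IsPGroup 2 N → N = ⊥) {m : ℕ}
    (h3 : Nat.card C = Nat.card H * m) :
    IsElementaryAbelian 2 ((pCore 2 C).map C.subtype) ∧ Nat.card ((pCore 2 C).map C.subtype) = m ∧
      ∃ _ : (((pCore 2 C).map C.subtype).subgroupOf C).Normal,
        Nonempty (C ⧸ ((pCore 2 C).map C.subtype).subgroupOf C ≃* H) := by
  have : Finite H := Finite.of_surjective f hf
  have e : pCore 2 C = f.ker := le_antisymm
    ((Subgroup.map_eq_bot_iff _).1 (h2 _ (Normal.map inferInstance f hf) ((Grp.pCore_isPGroup 2 C).map f)))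
    (Grp.le_pCore inferInstance fun g => ⟨1, Subtype.ext (by simpa [pow_two] using h1 _ g.2)⟩)
  have e' : ((pCore 2 C).map C.subtype).subgroupOf C = f.ker :=
    (comap_map_eq_self_of_injective C.subtype_injective _).trans e
  have k : ∀ a ∈ (pCore 2 C).map C.subtype, a * a = 1 := by
    rintro _ ⟨g, hg, rfl⟩
    exact congrArg Subtype.val (h1 g (e ▸ hg :))
  have hn : (((pCore 2 C).map C.subtype).subgroupOf C).Normal := by rw [e']; infer_instance
  have h4 := card_eq_card_quotient_mul_card_subgroup f.ker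
  rw [Nat.card_congr (QuotientGroup.quotientKerEquivOfSurjective f hf).toEquiv, h3] at h4
  refine ⟨⟨⟨⟨fun a b => Subtype.ext ?_⟩⟩, fun a ha => by rw [pow_two, k a ha]⟩, ?_, hn,
    ⟨(QuotientGroup.quotientMulEquivOfEq e').trans
      (QuotientGroup.quotientKerEquivOfSurjective f hf)⟩⟩
  · change a.1 * b = b * a
    rw [← inv_eq_of_mul_eq_one_right (k _ (mul_mem a.2 b.2)), mul_inv_rev,
      inv_eq_of_mul_eq_one_right (k _ a.2), inv_eq_of_mul_eq_one_right (k _ b.2)]
  · rw [card_map_of_injective C.subtype_injective, e]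
    exact (Nat.eq_of_mul_eq_mul_left Nat.card_pos h4).symm

namespace M22

theorem val32 : E.val π [32] = π 32 := by
  rw [Env.val_cons, Env.val_nil, mul_one, Env.lt, if_neg (by omega)]

theorem val_xa : E.val π xa = π 32 * T 550 := by
  rw [← val32, ← ok.val_tau (p := 550) (by decide +kernel), ← Env.val_append]; rfl

theorem val_xb : E.val π xb = π 32 * (T 550 * T 2751) := by
  rw [← val32, ← ok.val_tau (p := 550) (by decide +kernel),
    ← ok.val_tau (p := 2751) (by decide +kernel), ← Env.val_append, ← Env.val_append]; rfl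

/-- An outer involution fixing a point is conjugate to one of three. -/
theorem cls (hA : Nat.card (Aut E.n T) = 2 * 64561751654400)
    (htr : ∀ p < E.n, ∃ g ∈ Aut E.n T, g 550 = p) {t : Perm ℕ} (h1 : t ∈ Aut E.n T)
    (h2 : t ∉ Inn E.n T) (h3 : t * t = 1) {p : ℕ} (hp : p < E.n) (h4 : t p = p) :
    ∃ g ∈ Aut E.n T, ∃ u ∈ [[32], xa, xb], g * t * g⁻¹ = E.val π u := by
  have k : ∀ g ∈ Aut E.n T, g * t * g⁻¹ ∉ Inn E.n T ∧ g * t * g⁻¹ * (g * t * g⁻¹) = 1 := fun g hg =>
    ⟨fun h => h2 (by simpa [mul_assoc] using Aut.conj_mem_inn (inv_mem hg) h), by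
      rw [conj_mul, h3]; simp⟩
  have c0 := card_orbit_mul (Stab E T π [] [] []) 550
  have e0 : Stab E T π [] [] [] = Aut E.n T := by ext g; simp [mem_stab]
  rw [← stab_cons, e0, hA, show {q | ∃ g ∈ Aut E.n T, g 550 = q} = ↑(Finset.range 3510) from by
    ext q
    rw [Finset.coe_range]
    exact ⟨by rintro ⟨g, hg, rfl⟩; exact Aut.lt hg (by decide +kernel), htr q⟩,
    Set.ncard_coe_finset, Finset.card_range] at c0
  obtain ⟨-, a1, c1⟩ := ok.tr tr1
  obtain ⟨-, a2, c2⟩ := ok.tr tr2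
  obtain ⟨-, a3, c3⟩ := ok.tr tr3
  obtain ⟨-, a4, c4⟩ := ok.tr tr4
  rw [c2, c3, c4, cV.2] at c1
  obtain ⟨g0, b0, rfl⟩ := htr p hp
  have := finite_of_le (stab_le_aut (E := E) (T := T) (π := π) (xs := []) (ps := [550]) (ms := []))
  obtain ⟨g1, b1, d1⟩ := exists_conj_of_odd (H := Stab E T π [] [2751, 550] ms3)
    (S := Stab E T π [] [550] []) (fun g hg => ⟨hg.1, hg.2.1, fun q hq => hg.2.2.1 q
      (List.mem_cons_of_mem _ hq), by simp⟩) (k := 93555) (by norm_num)
    (by rw [c1]; change _ = 93555 * 393216; omega) (t := g0⁻¹ * t * g0⁻¹⁻¹)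
    ⟨mul_mem (mul_mem (inv_mem b0) h1) (inv_mem (inv_mem b0)), by simp, by simp [h4], by simp⟩
    (k _ (inv_mem b0)).2
  have b2 := inv_mem (mul_mem b0 b1.1)
  rw [show g1⁻¹ * (g0⁻¹ * t * g0⁻¹⁻¹) * g1 = (g0 * g1)⁻¹ * t * (g0 * g1)⁻¹⁻¹ by group] at d1
  obtain ⟨w1, m1, d2⟩ := a1 _ d1
  obtain ⟨w2, m2, d3⟩ := a2 _ d2
  obtain ⟨w3, m3, d4⟩ := a3 _ d3
  obtain ⟨w4, m4, d5⟩ := a4 _ d4
  obtain ⟨g2, b3, d6⟩ := ok.of_cosC ((allL_eq _ _).1 ((allL_eq _ _).1 ((allL_eq _ _).1
    ((allL_eq _ _).1 cos w1 m1) w2 m2) w3 m3) w4 m4) (by decide +kernel) (by decide +kernel) hs_in d1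
    (by simp only [Env.val_appendL]; group)
    (genW_le.2 (ok.allIn_inn (by decide +kernel)) (cV.1 d5)) (genW_le.2 lv_bl (cV.1 d5)).2.2.1
    (k _ b2).1 (k _ b2).2
  obtain ⟨m, hm, d7⟩ := ok.exists_subM (fun a ha b hb => by
    simpa [Env.val_cons] using (lv_bl _ (List.mem_map_of_mem ha)).2.1 _ (List.mem_map_of_mem hb))
    (cV.1 d6)
  have d8 : E.vC [32] lv [[32], xa, xb] vcs 128 m = true := by
    change m < 1024 at hm
    by_cases h : m < 128
    · exact of_allRange vc0 (by omega) (by omega)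
    · exact of_allRange vc1 (by omega) (by omega)
  obtain ⟨g3, b4, u, hu, d9⟩ := ok.of_vC d8 (t := g2 * (g0 * g1)⁻¹ * t * (g2 * (g0 * g1)⁻¹)⁻¹)
    (by rw [d7]; group) (k _ (mul_mem b3 b2)).2
  exact ⟨_, mul_mem b4 (mul_mem b3 b2), u, hu, by rw [← d9]; group⟩

variable (M : FM G D E.n T)

theorem cent_sig : (Stab E T π [[32]] [] []).comap M.ρ = I9 M := by
  refine le_antisymm ((M.of_KX ok (val32 ▸ sig_out) (val32 ▸ ok.sq 32) cs0
    (ok.memS (by decide +kernel))).1.trans ((closure_le _).2 ?_)) ?_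
  · rintro _ ⟨q, hq, rfl⟩
    exact (tau_I M (by rw [tb_eq, ← fix_sig]; exact (ok.fixM _ q).2 hq)).2
  · rw [I9, ← M.comap_genW ok (by decide +kernel)]
    exact comap_mono (genW_le.2 (ok.memL (by decide +kernel)))

theorem cent_sig_a : (Stab E T π [[32]] [550] []).comap M.ρ = I9 M ⊓ centralizer {M.τ 550} := by
  rw [stab_cons, comap_inf, cent_sig]
  congr 1
  ext g
  exact (mem_centralizer_singleton_iff.trans (M.comm_iff g (by decide +kernel))).symm

theorem cent_xa : Stab E T π [xa] [] [] = Stab E T π [[32]] [550] [] := by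
  have h : 550 < E.n := by decide +kernel
  ext g
  simp only [mem_stab, List.forall_mem_cons, val32, val_xa]
  refine and_congr_right fun hg => ⟨fun h1 => ?_, fun h1 => ?_⟩
  · obtain ⟨k, hk, e⟩ := ca_l0.1 g ⟨hg, by simpa [val_xa] using h1.1.1, by simp, by simp⟩
    have h2 : g 550 = 550 := e ▸ hk.2.2.2.1 550 List.mem_cons_self
    have h3 := h1.1.1
    rw [mul_assoc, ← (ok.sp.comm_iff hg h).2 h2, ← mul_assoc, ← mul_assoc, mul_left_inj] at h3
    simp [h2, h3]
  · refine ⟨⟨?_, by simp⟩, by simp, by simp⟩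
    rw [← mul_assoc, h1.1.1, mul_assoc, mul_assoc, (ok.sp.comm_iff hg h).2 h1.2.1.1]

def decS (c : ℕ) : Fin 3 ⊕ Fin 3 → ZMod 2 :=
  Sum.elim (fun i => (bit c i : ℕ)) (fun i => (bit c (3 + i) : ℕ))

def decO (c : ℕ) : (Fin 2 ⊕ Fin 2) ⊕ Fin 2 → ZMod 2 :=
  Sum.elim (Sum.elim (fun i => (bit c i : ℕ)) (fun i => (bit c (2 + i) : ℕ)))
    (fun i => (bit c (4 + i) : ℕ))

theorem equiv_a : Nonempty (↥(I9 M ⊓ centralizer {M.τ 550}) ≃*
    Multiplicative (ZMod 2) × PSp 3 (ZMod 2)) := by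
  have := M.finite
  have h : 550 < E.n := by decide +kernel
  have h1 : ∀ p, mS.testBit p = true → p < E.n ∧ T p ∈ Stab E T π [[32]] [550] [] := fun p hp =>
    have a : E.memT [[32]] [550] [] p = true := of_allBits (d := 6) (by decide +kernel) hp
    ⟨(nblt _ _).1 ((band_eq _ _).1 a).1, ok.memT a⟩
  have h2 : ∀ p, mS.testBit p = true → M.τ p ∈ I9 M ⊓ centralizer {M.τ 550} := fun p hp => by
    rw [← cent_sig_a, mem_comap, M.map p (h1 p hp).1]; exact (h1 p hp).2
  have h3 : M.τ 550 ∈ I9 M ⊓ centralizer {M.τ 550} :=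
    ⟨(tau_I M (by decide +kernel)).2, mem_centralizer_singleton_iff.2 rfl⟩
  obtain ⟨m1, m2, m3⟩ := spD_model 3
  have hb : ∀ u v : Fin 3 ⊕ Fin 3 → ZMod 2, Class.sympB 3 (ZMod 2) u v =
      u (.inl 0) * v (.inr 0) + u (.inr 0) * v (.inl 0) + (u (.inl 1) * v (.inr 1) +
        u (.inr 1) * v (.inl 1)) + (u (.inl 2) * v (.inr 2) + u (.inr 2) * v (.inl 2)) := by
    intro u v
    simp [sympForm, Matrix.J, Matrix.fromBlocks_mulVec, dotProduct, Fin.sum_univ_three,
      Matrix.neg_mulVec, ZMod.neg_eq_self_mod_two]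
    ring
  obtain ⟨f, hf, -⟩ := M.coord_hom ok cdS m1.2.2 m2 m3 decS (by decide +kernel) (by decide +kernel)
    (by simp only [hb]; decide +kernel) (by decide +kernel) (M.τ_sq h)
    fun p hp => (mem_centralizer_singleton_iff.1 (h2 p hp).2).symm
  have h4 := (M.of_KX ok (val32 ▸ sig_out) (val32 ▸ ok.sq 32) cs1 (ok.memS (by decide +kernel))).2
  rw [cent_sig_a] at h4
  have h5 : Nat.card (Matrix.symplecticGroup (Fin 3) (ZMod 2)) = 1451520 := by
    rw [Class.Sp.card_Sp, Nat.card_zmod]; decide +kernel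
  have h6 := Nat.card_le_card_of_surjective f hf
  have h7 : closure ((fun p => M.τ 550 * M.τ p) '' {p | mS.testBit p = true}) ≤
      I9 M ⊓ centralizer {M.τ 550} :=
    (closure_le _).2 (by rintro _ ⟨p, hp, rfl⟩; exact mul_mem h3 (h2 p hp))
  have h8 : closure ((fun p => M.τ 550 * M.τ p) '' {p | mS.testBit p = true}) ≤ L8 M :=
    (closure_le _).2 (by
      rintro _ ⟨p, hp, rfl⟩
      have := prod_mem_commutator_of_even (M.τ_sq h) (e_B M) [M.τ 550, M.τ p] (by
        simp only [List.forall_mem_cons]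
        exact ⟨⟨1, one_mem _, by simp⟩, (tau_B M (tb_eq _ _ ▸ subs_spec (T := mB)
          (by decide +kernel) p hp)).2, by simp⟩) (by simp)
      rw [comm_B] at this
      simpa using this)
  obtain ⟨-, h9, ⟨e⟩⟩ := two_prod_of_card (w614 M ▸ M.orderOf_w ok (u := [614]) Nat.prime_two
    (by decide +kernel)) h3 h7 (fun x hx => (mem_centralizer_singleton_iff.1 (h7 hx).2).symm)
    (fun e => not_L M (v := [614]) (by decide +kernel) (w614 M ▸ h8 e)) (by omega)
  exact ⟨e.trans (MulEquiv.prodCongr (MulEquiv.refl _) ((MulEquiv.ofBijective f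
    ((Nat.bijective_iff_surjective_and_card f).2 ⟨hf, by omega⟩)).trans
    (QuotientGroup.quotientBot.symm.trans (QuotientGroup.quotientMulEquivOfEq m3.symm))))⟩

theorem xb_out : E.val π xb ∉ Inn E.n T := fun h => sig_out (by
  rw [val_xb] at h
  simpa [mul_assoc] using mul_mem h (inv_mem (mul_mem (T_mem_inn (n := E.n) (p := 550) (by decide +kernel))
    (T_mem_inn (p := 2751) (by decide +kernel)))))

theorem row_b {C : Subgroup G} (hC : C = (Stab E T π [xb] [] []).comap M.ρ) :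
    IsElementaryAbelian 2 ((pCore 2 C).map C.subtype) ∧ Nat.card ((pCore 2 C).map C.subtype) = 64 ∧
      ∃ _ : (((pCore 2 C).map C.subtype).subgroupOf C).Normal,
        Nonempty (C ⧸ ((pCore 2 C).map C.subtype).subgroupOf C ≃*
          isometryGroup (ZMod 2) (quadFormMinus 2 (ZMod 2) 1 1)) := by
  have := M.finite
  have h0 : E.val π xb * E.val π xb = 1 := by
    simpa using ok.eqw (u := xb ++ xb) (v := []) (by decide +kernel)
  have h1 : ∀ q, mF.testBit q = true ↔ q < E.n ∧ E.val π xb q = q := fun q => fix_xb ▸ ok.fixM _ q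
  obtain ⟨h2, h3⟩ := M.of_KX ok xb_out h0 cb0 (ok.memS (by decide +kernel))
  have h4 := (M.of_KX ok xb_out h0 cb7 (ok.memS (by decide +kernel))).2
  have hcl := S1630.result 2 le_rfl
  obtain ⟨⟨τ, m1⟩, m2⟩ := o2_model _ _ (Class.Orth.minusQF_apply 2 (ZMod 2) 1 1)
    (Class.Orth.nd_minusQF 2 (by decide)) (by simp) (isTT_of_group (group_of_class hcl))
  obtain ⟨f, hf, hk⟩ := M.coord_hom ok cdF m1.2 hcl.2.2 m2 decO
    (by simp only [Set.mem_ofPred_eq, Class.Orth.minusQF_apply, quadFormMinus]; decide +kernel)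
    (by simp only [Set.mem_ofPred_eq, Class.Orth.minusQF_apply, quadFormMinus]; decide +kernel)
    (by simp only [Class.Orth.polar_minusQF]; decide +kernel) (by decide +kernel) (one_mul 1)
    fun p _ => by simp
  have h5 : C = closure ((fun p => 1 * M.τ p) '' {p | mF.testBit p = true}) := by
    simp only [one_mul, h1]
    refine hC ▸ le_antisymm h2 ((closure_le _).2 ?_)
    rintro _ ⟨q, hq, rfl⟩
    refine ⟨M.aut _, ?_, by simp, by simp⟩
    simpa [M.map q hq.1] using ((ok.sp.comm_iff (ok.val_aut xb) hq.1).2 hq.2).symm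
  obtain ⟨e⟩ := nonempty_aut_psu4_equiv
  rw [← hC] at h3
  subst h5
  refine ext_row f hf (fun g hg => Subtype.ext (mem_bot.1 (eq_bot_of_card_eq _ h4 ▸ ?_)))
    (fun N h6 h7 => ?_) (by rw [h3, ← Nat.card_congr e.toEquiv, card_aut_psu4])
  · have h6 : (g * g).1 ∈ (Stab E T π [xb] [] []).comap M.ρ := hC ▸ (g * g).2
    refine ⟨h6.1, h6.2.1, fun q hq => ?_, by simp⟩
    have h7 : mF.testBit q = true := tb_eq _ _ ▸ (allL_eq _ _).1 (show allL (tb mF) _ = true by
      decide +kernel) q hq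
    exact (M.comm_iff _ ((h1 q).1 h7).1).1 (by simpa using (hk g hg q h7).eq)
  · have := h6.map e.symm.toMonoidHom e.symm.surjective
    exact (map_eq_bot_iff_of_injective _ e.symm.injective).1
      (pCore_aut_psu4 (h7.map e.symm.toMonoidHom))

end M22

end Cfsg.Agent.TT.Pt
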