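import Cfsg.Agent.TT.Pt.M22

/-! Centralisers of elements of order 7 and 5 in the space of `Fi22`. -/

set_option autoImplicit false
set_option Elab.async false
set_option maxRecDepth 100000

namespace Cfsg.Agent.TT.Pt.M22

open Cfsg.Agent.Comp.BN


def x7 : List ℕ := [614, 71, 1984, 1891, 3493, 935]

def ws7 : List (List ℕ) := [x7, [2260], [2846]]

theorem c7_l0 : Lvl (Stab E T π [x7] [] []) (genW E π ([32] :: ws7)) 2196 3 :=
  (inv_stab _ _ _).lvl ok (gs := [[2260], [2846]])
    ((ok.memL (by decide +kernel)).inf ((allIn_genW _).sub (by decide +kernel)))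
    (pre := (.mf 0 .done)) (r1 := 2) (r2 := 0)
    (rs := [])
    (by decide +kernel)

theorem c7_l1 : Lvl (Stab E T π [x7] [2196] []) (genW E π ([32] :: ws7)) 2782 2 :=
  (inv_stab _ _ _).lvl ok (gs := [[2260]])
    ((ok.memL (by decide +kernel)).inf ((allIn_genW _).sub (by decide +kernel)))
    (pre := (.mf 0 (.mn 0 (.md 1 0 .done)))) (r1 := 1) (r2 := 0)
    (rs := [])
    (by decide +kernel)

theorem c7_l2 : Lvl (Stab E T π [x7] [2782, 2196] []) (genW E π ([32] :: ws7)) 366 14 :=
  (inv_stab _ _ _).lvl ok (gs := [[32], [614, 71, 1984, 1891, 3493, 935]])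
    ((ok.memL (by decide +kernel)).inf ((allIn_genW _).sub (by decide +kernel)))
    (pre := (.m1  (.mn 1 (.md 1 0 (.mn 0 (.ma 0 1 .done)))))) (r1 := 6) (r2 := 6)
    (rs := [(nat_lit 0x10000000000000000000000000000000000000000000000000000000000000000000000000000000000000000000000000000000000000040000000000000000000000000000000000000000000000000000000000000000000000000000000000080000000000000008000000000000000000000001000000000400000000000000000000000000000000000000000000000000000000000000000000004000000000000000000000000000000000000000000000000000000000000000008000080100000401000000000000000000000000000000000000000000010000000a000000100000000002100000000000000000000000000000000000000000000000000000000000000000020000000000000000020000000000000000080081000000000000000000000000000010000000000000000000020000008000040400000000000000400401000000000000000080000000100000000000000000000000400000000000000000020000000000000000000080802000000200000002001000000000600000002000000000000040000, (.te 0 1 false (.px 0 0 (.tc 0 1 false (.pt 1 0 (.tm 0 3 false (.py 0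 2 (.tc 0 2 false (.tc 0 1 false (.pt 0 1 (.tm 0 3 true (.px 0 3 (.tc 0 1 false (.tc 0 2 false .done))))))))))))))])
    (by decide +kernel)

theorem c7 : Det (Stab E T π [x7] [] []) (genW E π ([32] :: ws7)) 84 :=
  (c7_l0.det' (c7_l1.det' (c7_l2.det' ((inv_stab _ _ _).det_bot ok _ (pre := (.px 0 0 (.px 0 0 (.px 0 0 (.py 0 3 (.py 0 0 (.pt 0 4 (.pt 3 0 (.pt 3 7 (.py 0 0 (.py 0 0 (.pt 10 12 (.px 0 0 (.px 0 0 (.pt 9 2 (.py 0 0 (.pt 2 0 (.pt 6 0 (.pt 16 17 (.px 0 0 (.pt 17 11 (.pt 1 0 (.pt 20 17 (.py 0 0 (.py 0 0 (.pt 0 17 (.px 0 3 (.pt 27 28 (.pt 23 0 (.pt 6 0 (.pt 3 0 (.pt 29 19 (.pt 0 4 (.pt 29 0 .done)))))))))))))))))))))))))))))))))) (by decide +kernel)))))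

theorem c7_in : AllIn E π (Stab E T π [x7] [] []) ([32] :: ws7) := ok.memL (by decide +kernel)

def x5 : List ℕ := [614, 71, 1984, 1891]

def ws5 : List (List ℕ) := [x5, [1651], [1014], [3385], [1822]]

theorem c5_l0 : Lvl (Stab E T π [x5] [] []) (genW E π ([32] :: ws5)) 1587 10 :=
  (inv_stab _ _ _).lvl ok (gs := [[1651], [1014], [3385], [1822]])
    ((ok.memL (by decide +kernel)).inf ((allIn_genW _).sub (by decide +kernel)))
    (pre := (.mf 0 .done)) (r1 := 2) (r2 := 0)
    (rs := [])
    (by decide +kernel)

theorem c5_l1 : Lvl (Stab E T π [x5] [1587] []) (genW E π ([32] :: ws5)) 950 6 :=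
  (inv_stab _ _ _).lvl ok (gs := [[1651], [3385], [1822]])
    ((ok.memL (by decide +kernel)).inf ((allIn_genW _).sub (by decide +kernel)))
    (pre := (.mf 0 (.mn 0 (.md 1 0 .done)))) (r1 := 1) (r2 := 0)
    (rs := [])
    (by decide +kernel)

theorem c5_l2 : Lvl (Stab E T π [x5] [950, 1587] []) (genW E π ([32] :: ws5)) 3321 2 :=
  (inv_stab _ _ _).lvl ok (gs := [[1822]])
    ((ok.memL (by decide +kernel)).inf ((allIn_genW _).sub (by decide +kernel)))
    (pre := (.mf 0 (.mn 1 (.ma 0 1 (.mn 0 (.md 1 0 .done)))))) (r1 := 1) (r2 := 0)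
    (rs := [(nat_lit 0x8000000000000000000000000000000000000000000000000000000000000000000000000000000000000000000000000000000000000000000000000000000000000000000000000000000000000000000000000000000000000000000000000000000000000000000000000000000000000000000000000000000000000000000000000000000000000000000000000000000000000000000000000000000000000000000000000000000000000000000000000000000000000000000000000000000000000, (.te 0 2 false .done))])
    (by decide +kernel)

theorem c5_l3 : Lvl (Stab E T π [x5] [3321, 950, 1587] []) (genW E π ([32] :: ws5)) 2537 10 :=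
  (inv_stab _ _ _).lvl ok (gs := [[32], [614, 71, 1984, 1891]])
    ((ok.memL (by decide +kernel)).inf ((allIn_genW _).sub (by decide +kernel)))
    (pre := (.m1  (.mn 2 (.md 1 0 (.mn 1 (.ma 0 1 (.mn 0 (.ma 0 1 .done)))))))) (r1 := 4) (r2 := 4)
    (rs := [(nat_lit 0x400000000000000000000000000000000000000000000000000040000000000000000000000010000000000000000000000000000000000000000000000000000000000000000000000000000000000000000000000000000000000000000000000000000000000000000000000000000000000000000000000000000000000000000000000000000000000000100000000000000000000000000000000000000000000000000000000000000100000000000000000000000000002000000000000000000000000000000000000000000000008000000000000000000000000000000000000000000000000000000000000000200000000000000000000000000000000000400080000000000040000, (.px 0 0 (.tc 0 1 false (.pt 1 0 (.tm 0 5 false (.py 0 2 (.tc 0 1 true .done)))))))])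
    (by decide +kernel)

theorem c5 : Det (Stab E T π [x5] [] []) (genW E π ([32] :: ws5)) 1200 :=
  (c5_l0.det' (c5_l1.det' (c5_l2.det' (c5_l3.det' ((inv_stab _ _ _).det_bot ok _ (pre := (.px 0 0 (.pt 1 4 (.pt 1 0 (.pt 5 6 (.pt 1 0 (.px 0 0 (.px 0 3 (.py 0 7 (.pt 7 0 (.pt 10 11 (.pt 0 13 (.pt 2 0 (.pt 5 0 (.px 0 11 (.pt 6 12 (.pt 1 0 (.pt 14 18 (.pt 8 0 (.pt 2 0 (.px 0 0 (.pt 19 20 (.pt 0 17 (.pt 20 12 (.pt 14 0 (.pt 2 0 (.px 0 18 (.py 0 24 (.pt 0 10 (.pt 21 0 (.pt 3 0 (.py 0 7 (.pt 0 13 .done))))))))))))))))))))))))))))))))) (by decide +kernel))))))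

theorem c5_in : AllIn E π (Stab E T π [x5] [] []) ([32] :: ws5) := ok.memL (by decide +kernel)

def z5 : List ℕ := [1651, 1014, 3385, 1822]

def ws25 : List (List ℕ) := [x5, z5]

theorem c25_l0 : Lvl (Stab E T π [x5, z5] [] []) (genW E π ([32] :: ws25)) 697 50 :=
  (inv_stab _ _ _).lvl ok (gs := [[32], [614, 71, 1984, 1891], [1651, 1014, 3385, 1822]])
    ((ok.memL (by decide +kernel)).inf ((allIn_genW _).sub (by decide +kernel)))
    (pre := (.m1  .done)) (r1 := 4) (r2 := 4)
    (rs := [(nat_lit 0x20000000000000000000000000002000000000000000000000000000000000000000000000000000000000000000000000000000000000000000000000000000000000000000000004000000000000000000000000000000000000000000000000000000000000000000000000000000000000000000000000004000800000000000000400000000004000000000000000000000000000000000000000000000000000000000000000000000001000000002000000000000000000000000000000004020000000000000000000000000000000000000000000000008000000000000000000000000000000000000000000000000000000000040020000000000000000000000010000000000000000000000000010000000020000001004000400000000018200000400000002000200000000000004000800010002100000000000000001004000100001000800901001000200400000000000000400000000000804010020001000000002000000000000000000000080200002004000100220000000400a00000040000000000000a0001100008200000002810004000000400180582810000080008910090,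 (.px 0 0 (.tc 0 1 false (.py 1 1 (.tc 0 1 true (.te 0 1 false (.tc 0 2 false (.py 0 2 (.tc 0 1 false (.tc 0 2 false (.pt 2 0 (.tc 0 4 false (.py 1 0 (.tc 0 2 true (.tc 0 4 true .done)))))))))))))))])
    (by decide +kernel)

theorem c25 : Det (Stab E T π [x5, z5] [] []) (genW E π ([32] :: ws25)) 50 :=
  (c25_l0.det' ((inv_stab _ _ _).det_bot ok _ (pre := (.py 0 0 (.py 1 1 (.pt 1 0 (.py 1 0 (.px 1 4 (.pt 0 5 (.px 0 0 (.pt 3 0 (.pt 6 8 (.py 0 0 (.py 1 0 (.px 0 11 (.pt 0 7 (.py 0 0 (.pt 11 8 (.pt 1 0 (.px 1 4 (.pt 12 15 (.pt 1 0 (.px 1 14 (.py 1 18 (.pt 1 0 (.pt 3 0 (.pt 11 23 (.pt 0 19 (.pt 11 0 (.px 1 25 (.pt 26 27 (.pt 1 0 (.px 1 0 .done))))))))))))))))))))))))))))))) (by decide +kernel)))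

theorem c25_in : AllIn E π (Stab E T π [x5, z5] [] []) ([32] :: ws25) := ok.memL (by decide +kernel)

end Cfsg.Agent.TT.Pt.M22
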