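import Cfsg.Agent.TT.Pt.Tab

/-!
Assembly of a correct environment from networks, tables and a labelled tree.
-/

set_option autoImplicit false

namespace Cfsg.Agent.TT.Pt

open Equiv Cfsg.Agent.Comp.BN

/-- Small labels (below `64`) stored in bytes. -/
noncomputable def lab8 (labs : List ℕ) : ℕ → ℕ := lk (chk (fun _ b => nth 0 labs b) 4 15) 3 8 255 63 0

/-- The environment of networks and tables. -/
noncomputable def mkE (ns : List Net) (tabs : List (List ℕ)) (labs nbs bs : List ℕ) (v : Comp.Net)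
    (dep n N K d s s1 m1 s2 m2 M : ℕ) : Env :=
  ⟨fun k => (nth Net.nil ns k).app, lk (chk (blkL N K v tabs) s1 m1) s s2 m2 M, lab8 labs, dep,
    nth (ones n) nbs, bs, n, K, d⟩

noncomputable def isNil (t : Net) : Bool :=
  Net.rec (motive := fun _ => Bool) true (fun _ _ _ _ => false) t

/-- The letters from `m` on, except `32`, are trivial. -/
noncomputable def padC (ns : List Net) (m : ℕ) : Bool :=
  allN (fun k => bor (Nat.blt k m) (bor (Nat.beq k 32) (isNil (nth Net.nil ns k)))) ns.length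

theorem pad_of {ns : List Net} {m : ℕ} (h : padC ns m = true) (k : ℕ) (h1 : m ≤ k) (h2 : k ≠ 32) :
    netPerm ns k = 1 := by
  by_cases hk : k < ns.length
  · have := (allN_eq _ _).1 h k hk
    rw [bor_eq, bor_eq, nblt, nbeq] at this
    have h3 := (this.resolve_left (by omega)).resolve_left h2
    rw [netPerm]
    cases e : nth Net.nil ns k with
    | nil => rfl
    | cons => rw [e] at h3; exact absurd h3 Bool.false_ne_true
  · exact netPerm_out ns k (not_lt.1 hk)

/-- The letter `k` is the transposition at the point `k` of the list `rt`. -/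
def Roots (n : ℕ) (T π : ℕ → Perm ℕ) (rt : List ℕ) (m : ℕ) : Prop :=
  ∀ k < m, nth n rt k < n ∧ π k = T (nth n rt k)

theorem Roots.zero (n : ℕ) (T π : ℕ → Perm ℕ) (rt : List ℕ) : Roots n T π rt 0 :=
  fun _ h => absurd h (Nat.not_lt_zero _)

theorem Roots.succ {n : ℕ} {T π : ℕ → Perm ℕ} {rt : List ℕ} {m q : ℕ} (h : Roots n T π rt m)
    (hq : π m = T q) (hc : band (Nat.blt q n) (Nat.beq (nth n rt m) q) = true) :
    Roots n T π rt (m + 1) := fun k hk => by
  rw [band_eq, nblt, nbeq] at hc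
  by_cases e : k = m
  · rw [e, hc.2]; exact ⟨hc.1, hq⟩
  · exact h k (by omega)

theorem nth_mem_take (d : ℕ) (rt : List ℕ) (k l : ℕ) (h1 : k < l) (h2 : k < rt.length) :
    nth d rt k ∈ rt.take l := by
  induction rt generalizing k l with
  | nil => simp at h2
  | cons c rt ih =>
    obtain ⟨l, rfl⟩ : ∃ l', l = l' + 1 := ⟨l - 1, by omega⟩
    cases k with
    | zero => exact List.mem_cons_self
    | succ k => exact List.mem_cons_of_mem _ (ih k l (by omega) (by simpa using h2))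

theorem exists_nth_of_mem_take (d : ℕ) (rt : List ℕ) (l c : ℕ) (h : c ∈ rt.take l) :
    ∃ k < l, nth d rt k = c := by
  induction rt generalizing l with
  | nil => simp at h
  | cons a rt ih =>
    cases l with
    | zero => simp at h
    | succ l =>
      rcases List.mem_cons.1 h with e | e
      · exact ⟨0, by omega, e.symm⟩
      · obtain ⟨k, h1, h2⟩ := ih l e
        exact ⟨k + 1, by omega, h2⟩

/-- The first `l` roots generate. -/
def Gens (n : ℕ) (T : ℕ → Perm ℕ) (bs : List ℕ) : Prop :=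
  (∀ b ∈ bs, b < n) ∧
    ∀ p < n, ∃ c ∈ {c | c ∈ bs}, ∃ x ∈ Subgroup.closure (T '' {c | c ∈ bs}), x c = p

theorem Roots.gens {n : ℕ} {T π : ℕ → Perm ℕ} {rt : List ℕ} {m l : ℕ} (h : Roots n T π rt m)
    (hl : 0 < l ∧ l ≤ m ∧ m ≤ rt.length)
    (ho : OrbS (subT π ((List.range l).map fun k => [k])) [] (nth n rt 0) (ones n)) :
    Gens n T (rt.take l) :=
  ⟨fun b hb => by
    obtain ⟨k, h1, rfl⟩ := exists_nth_of_mem_take n rt l b hb
    exact (h k (by omega)).1,
  gen_of_orb (nth_mem_take n rt 0 l hl.1 (by omega))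
    (fun k hk => ⟨_, nth_mem_take n rt k l hk (by omega), (h k (by omega)).2⟩) ho⟩

/-- The letter `32` conjugates the letter `k` to the letter `js k`, for `k < l`. -/
noncomputable def sigC (a : Act) (n N K m : ℕ) (rt js : List ℕ) (l : ℕ) : Bool :=
  band (outC a n N K 32)
    (band (allN (fun b => force (idP N K b) fun P => Nat.beq (a.A 32 (a.A 32 P)) P) K)
      (allN (fun k => frc (nth 0 js k) fun j => band (Nat.blt j m)
        (band (Nat.beq (a.F 32 (nth n rt k)) (nth n rt j)) (cjC a a N K j [32] k 0 K))) l))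

theorem Roots.sig {n N K : ℕ} {T π : ℕ → Perm ℕ} {rt js : List ℕ} {m l : ℕ} (h : Roots n T π rt m)
    (sp : Sp n T) (hg : Gens n T (rt.take l)) {a : Act} (s : a.Spec N π) (hN : N ≤ 2 ^ K)
    (hl : l ≤ m) (hc : sigC a n N K m rt js l = true) : π 32 ∈ Aut n T ∧ π 32 * π 32 = 1 := by
  simp only [sigC, band_eq, allN_eq, frc_eq, force_eq, nblt, nbeq] at hc
  obtain ⟨h1, h2, h3⟩ := hc
  refine ⟨sp.mem_aut_of_gens (out_of_outC s hN h1) hg.1 (fun b hb => ?_) hg.2, ?_⟩
  · obtain ⟨k, hk, rfl⟩ := exists_nth_of_mem_take n rt l b hb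
    obtain ⟨h4, h5, h6⟩ := h3 k hk
    have h7 := (CjTo.zero a a N K (nth 0 js k) [32] k).step h6
    have e : π (nth 0 js k) * ev π [32] = ev π [32] * π k := eq_of_planes hN
      (A := fun P => appW a [32] (a.A (nth 0 js k) P)) (B := fun P => a.A k (appW a [32] P))
      (fun S i => by rw [s.appW, s.hA]; rfl) (fun S i => by rw [s.hA, s.appW]; rfl)
      (fun i hi => by rw [Perm.mul_apply, s.ev_fix _ i hi, s.hN _ i hi])
      (fun i hi => by rw [Perm.mul_apply, s.hN _ i hi, s.ev_fix _ i hi])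
      (fun b hb => h7 b (by omega))
    rw [ev_cons, ev_nil, mul_one] at e
    rw [← (h k (by omega)).2, ← e, ← s.hF, h5, ← (h _ h4).2]; group
  · exact eq_of_planes hN (A := fun P => a.A 32 (a.A 32 P)) (B := fun P => P)
      (fun S i => by rw [s.hA, s.hA]; rfl) (fun _ _ => rfl)
      (fun i hi => by rw [Perm.mul_apply, s.hN _ i hi, s.hN _ i hi]) (fun _ _ => rfl) h2

/-- The stored neighbourhood of the letter `k` is correct. -/
noncomputable def nbC (ns : List Net) (nbs : List ℕ) (n K k : ℕ) : Bool :=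
  Nat.beq (nth (ones n) nbs k) (fixGo n K (nth Net.nil ns k).app 0 K (ones n))

theorem ok_mk {ns : List Net} {tabs : List (List ℕ)} {labs nbs rt : List ℕ} {v : Comp.Net}
    {dep n N K d s s1 m1 s2 m2 M nb m l : ℕ} {T : ℕ → Perm ℕ} (sp : Sp n T)
    (s0 : (netAct ns).Spec N (netPerm ns)) (hv : Comp.TransOK 12 s v)
    (hp : s + s2 = 11 ∧ s1 = s + 1 ∧ m1 = 2 ^ (s + 1) - 1 ∧ m2 = 2 ^ s2 - 1 ∧ M = 2 ^ K - 1 ∧
      K ≤ 2 ^ s ∧ N ≤ 2 ^ K ∧ n ≤ N ∧ n ≤ 4096 * nb ∧ m ≤ 32)
    (hl : band (Nat.ble tabs.length ns.length) (band (Nat.ble nbs.length m)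
      (band (Nat.ble rt.length m) (padC ns m))) = true)
    (htab : ∀ k < ns.length, tabC N K v tabs ns nb k = true)
    (hrt : Roots n T (netPerm ns) rt m) (hg : Gens n T (rt.take l))
    (hσ : netPerm ns 32 ∈ Aut n T ∧ netPerm ns 32 * netPerm ns 32 = 1)
    (hnb : ∀ k < m, nbC ns nbs n K k = true) {rk : ℕ → ℕ}
    (htr : ∀ p < n, Ok0.treeC (mkE ns tabs labs nbs (rt.take l) v dep n N K d s s1 m1 s2 m2 M) rt rk p
      = true) :
    Ok (mkE ns tabs labs nbs (rt.take l) v dep n N K d s s1 m1 s2 m2 M) T (netPerm ns) := by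
  obtain ⟨p1, rfl, rfl, rfl, rfl, p2, p3, p4, p5, p6⟩ := hp
  simp only [band_eq, nble] at hl
  obtain ⟨l1, l2, l3, l4⟩ := hl
  have hc : ∀ k, (k < m ∧ nth n rt k < n ∧ netPerm ns k = T (nth n rt k)) ∨ k = 32 ∨
      (m ≤ k ∧ netPerm ns k = 1) := fun k => by
    by_cases h1 : k < m
    · exact Or.inl ⟨h1, hrt k h1⟩
    · by_cases h2 : k = 32
      · exact Or.inr (Or.inl h2)
      · exact Or.inr (Or.inr ⟨by omega, pad_of l4 k (by omega) h2⟩)
  have haut : ∀ k, netPerm ns k ∈ Aut n T := fun k => by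
    rcases hc k with h | rfl | h
    · rw [h.2.2]; exact sp.T_mem h.2.1
    · exact hσ.1
    · rw [h.2]; exact one_mem _
  have h0 : Ok0 (mkE ns tabs labs nbs (rt.take l) v dep n N K d s (s + 1) (2 ^ (s + 1) - 1) s2
      (2 ^ s2 - 1) (2 ^ K - 1)) T (netPerm ns) := by
    refine ⟨sp, s0.hA, hF_of_tabC p1 p2 p3 p4 p5 hv s0 (fun _ => rfl) l1 htab, haut, fun k => ?_,
      fun k hk => ?_, fun p => lk_lt _ _ _ _ _ _, fun k hk q => ?_, p4.trans p3⟩
    · rcases hc k with h | rfl | h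
      · rw [h.2.2]; exact sp.sq _ h.2.1
      · exact hσ.2
      · rw [h.2]; exact one_mul _
    · rcases hc k with h | rfl | h
      · rw [h.2.2]; exact T_mem_inn h.2.1
      · omega
      · rw [h.2]; exact one_mem _
    · change (nth (ones n) nbs k).testBit q = true ↔ q < n ∧ _
      rcases hc k with h | rfl | h
      · rw [(nbeq _ _).1 (hnb k h.1)]
        exact testBit_fixAll (p4.trans p3) (s0.hA k) (haut k).1 q
      · omega
      · rw [nth_of_le _ _ _ (by omega), h.2, testBit_ones]; simp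
  refine ⟨h0, h0.wk_of_tree (fun k hk => ?_) htr, hg.1, fun g hg1 hg2 =>
    sp.eq_one_of_gens hg.1 hg.2 hg1 hg2⟩
  by_cases h1 : k < m
  · exact (hrt k h1).2
  · rw [nth_of_le _ _ _ (by omega)] at hk; exact absurd hk (lt_irrefl _)

end Cfsg.Agent.TT.Pt
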