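import Cfsg.Agent.TT.Pt.Loc

/-!
Outer automorphisms of a space: the automorphism group of the group, centralisers of outer
involutions, reduction of an involution to a coset of an elementary abelian group, and
homomorphisms from coordinate tables.
-/

set_option autoImplicit false

namespace Cfsg.Agent.TT.Pt

open Equiv Cfsg.Agent.Comp.BN Subgroup

variable {G : Type*} [Group G] {D : Set G} {n : ℕ} {E : Env} {T π : ℕ → Perm ℕ}

/-- An involution is conjugate into a subgroup of odd index. -/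
theorem exists_conj_of_odd {H S : Subgroup G} [Finite S] (hHS : H ≤ S) {k : ℕ} (hk : ¬ 2 ∣ k)
    (hc : Nat.card S = k * Nat.card H) {t : G} (ht : t ∈ S) (h2 : t * t = 1) :
    ∃ g ∈ S, g⁻¹ * t * g ∈ H := by
  have h1 := card_mul_index (H.subgroupOf S)
  rw [Nat.card_congr (subgroupOfEquivOfLe hHS).toEquiv, hc, mul_comm] at h1
  have : Finite H := Finite.of_injective _ (inclusion_injective hHS)
  have h3 : IsPGroup 2 (zpowers (⟨t, ht⟩ : S)) := IsPGroup.iff_card.2 (by
    rw [Nat.card_zpowers]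
    exact ((Nat.dvd_prime_pow Nat.prime_two).1 (orderOf_dvd_of_pow_eq_one (n := 2 ^ 1)
      (Subtype.ext (by simpa [pow_two] using h2)))).imp fun _ h => h.2)
  obtain ⟨q, hq⟩ := h3.nonempty_fixed_point_of_prime_not_dvd_card (S ⧸ H.subgroupOf S) (by
    rw [← index, Nat.eq_of_mul_eq_mul_right Nat.card_pos h1]; exact hk)
  obtain ⟨g, rfl⟩ := QuotientGroup.mk_surjective q
  have h4 := (QuotientGroup.eq.1 (hq ⟨_, mem_zpowers _⟩).symm :)
  exact ⟨g, g.2, by simpa [mem_subgroupOf, mul_assoc] using h4⟩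

/-- The automorphisms of the group come from the space. -/
theorem FM.exists_aut (M : FM G D n T) {σ : Perm ℕ} (h1 : σ ∈ Aut n T) (h2 : σ ∉ Inn n T)
    (hc : Nat.card (MulAut G) = 2 * Nat.card G) : Nat.card (Aut n T) = 2 * Nat.card G ∧
      ∃ α : Aut n T ≃* MulAut G, ∀ x g, M.ρ (α x g) = x * M.ρ g * x⁻¹ := by
  have := M.finite
  let e : G ≃* Inn n T := (MonoidHom.ofInjective M.inj).trans (MulEquiv.subgroupCongr M.range)
  have hN : Aut n T ≤ normalizer (Inn n T : Set (Perm ℕ)) := fun g hg => mem_normalizer_iff.2 fun x =>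
    ⟨Aut.conj_mem_inn hg, fun h => by simpa [mul_assoc] using Aut.conj_mem_inn (inv_mem hg) h⟩
  let β : Aut n T →* MulAut G := (MulAut.congr e.symm).toMonoidHom.comp
    ((Inn n T).normalizerMonoidHom.comp (inclusion hN))
  have he : ∀ y, M.ρ (e.symm y) = y := fun y => congrArg Subtype.val (e.apply_symm_apply y)
  have hβ : ∀ x g, M.ρ (β x g) = x * M.ρ g * x⁻¹ := fun x g => he _
  have hi : Function.Injective β := (injective_iff_map_eq_one β).2 fun x hx => Subtype.ext (by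
    ext p
    by_cases hp : p < n
    · have := hβ x (M.τ p)
      rw [hx, MulAut.one_apply, M.map p hp] at this
      exact (M.sp.inj _ hp _ (Aut.lt x.2 hp) (this.trans (Aut.conj x.2 hp))).symm
    · exact Aut.out x.2 (not_lt.1 hp))
  have h3 := card_mul_index ((Inn n T).subgroupOf (Aut n T))
  rw [Nat.card_congr (subgroupOfEquivOfLe M.sp.inn_le).toEquiv, ← M.card] at h3
  have h4 : 2 ≤ ((Inn n T).subgroupOf (Aut n T)).index :=
    one_lt_index_of_ne_top fun h => h2 (h ▸ mem_top (⟨σ, h1⟩ : Aut n T) : _ ∈ (Inn n T).subgroupOf _)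
  have h5 := Nat.card_le_card_of_injective _ hi
  have h6 : Nat.card (Aut n T) = 2 * Nat.card G := le_antisymm (hc ▸ h5) (by
    rw [← h3, mul_comm]; exact Nat.mul_le_mul_left _ h4)
  exact ⟨h6, MulEquiv.ofBijective β ((Nat.bijective_iff_injective_and_card _).2
    ⟨hi, h6.trans hc.symm⟩), hβ⟩

/-! ### Centralisers of outer involutions -/

/-- The group generated by a word and the transpositions at its fixed points. -/
noncomputable def KX (E : Env) (T π : ℕ → Perm ℕ) (x : List ℕ) : Subgroup (Perm ℕ) :=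
  zpowers (E.val π x) ⊔ closure (T '' {q | q < E.n ∧ E.val π x q = q})

noncomputable def Env.kxC (E : Env) (x : List ℕ) (ws : List (List ℕ)) : Bool :=
  allL (fun w => bor (eqL w x) (allL (fun a => band (Nat.ble 64 a) (band (Nat.blt (Nat.sub a 64) E.n)
    (Nat.beq (E.pw x (Nat.sub a 64)) (Nat.sub a 64)))) w)) ws

theorem Ok.allIn_KX (h : Ok E T π) {x : List ℕ} {ws : List (List ℕ)} (hc : E.kxC x ws = true) :
    AllIn E π (KX E T π x) ws := fun w hw => by
  rcases (bor_eq _ _).1 ((allL_eq _ _).1 hc w hw) with h1 | h1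
  · rw [eqL_spec h1]; exact mem_sup_left (mem_zpowers _)
  · simp only [allL_eq, band_eq, nble, nblt, nbeq] at h1
    clear hw
    induction w with
    | nil => exact one_mem _
    | cons a w ih =>
      obtain ⟨h2, h3, h4⟩ := h1 a List.mem_cons_self
      rw [Env.val_cons, h.lt_tau' h2 h3]
      exact mul_mem (mem_sup_right (subset_closure ⟨_, ⟨h3, h.pw x h3 ▸ h4⟩, rfl⟩))
        (ih fun b hb => h1 b (List.mem_cons_of_mem _ hb))

theorem mem_zpowers_sq {x a : G} (h : x * x = 1) (ha : a ∈ zpowers x) : a = 1 ∨ a = x := by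
  obtain ⟨i, rfl⟩ := ha
  have : x ^ (2 : ℤ) = 1 := by rw [zpow_two, h]
  rcases Int.even_or_odd' i with ⟨k, rfl | rfl⟩
  · left; simp [zpow_mul, this]
  · right; simp [zpow_add, zpow_mul, this]

/-- The inner part of a group determined by `KX`. -/
theorem FM.of_KX (M : FM G D E.n T) (h : Ok E T π) {x : List ℕ} (h1 : E.val π x ∉ Inn E.n T)
    (h2 : E.val π x * E.val π x = 1) {S : Subgroup (Perm ℕ)} {m : ℕ}
    (hd : Det S (KX E T π x) (2 * m)) (hx : E.val π x ∈ S) :
    S.comap M.ρ ≤ closure (M.τ '' {q | q < E.n ∧ E.val π x q = q}) ∧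
      Nat.card (S.comap M.ρ) = m := by
  have h3 : closure (T '' {q | q < E.n ∧ E.val π x q = q}) ≤ centralizer {E.val π x} :=
    (closure_le _).2 (by
      rintro _ ⟨q, hq, rfl⟩
      exact mem_centralizer_singleton_iff.2 ((h.sp.comm_iff (h.val_aut x) hq.1).2 hq.2).symm)
  have h4 : closure (T '' {q | q < E.n ∧ E.val π x q = q}) ≤ Inn E.n T :=
    closure_mono (Set.image_mono fun q hq => hq.1)
  have h5 : ∀ g ∈ S, g ∈ closure (T '' {q | q < E.n ∧ E.val π x q = q}) ∨
      E.val π x * g ∈ closure (T '' {q | q < E.n ∧ E.val π x q = q}) := fun g hg => by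
    obtain ⟨a, ha, b, hb, rfl⟩ := mem_sup_of_comm (fun a ha b hb => by
      rcases mem_zpowers_sq h2 ha with rfl | rfl
      · simp
      · exact (mem_centralizer_singleton_iff.1 (h3 hb)).symm) (hd.1 hg)
    rcases mem_zpowers_sq h2 ha with rfl | rfl
    · exact Or.inl (by simpa using hb)
    · exact Or.inr (by rwa [← mul_assoc, h2, one_mul])
  refine ⟨fun g hg => ?_, ?_⟩
  · have h6 := (h5 _ hg).resolve_right fun h6 => h1 (by
      simpa using (Inn E.n T).mul_mem (h4 h6) ((Inn E.n T).inv_mem (M.inn g)))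
    rw [← comap_map_eq_self_of_injective M.inj (closure _), MonoidHom.map_closure, Set.image_image,
      Set.image_congr fun q (hq : q ∈ {q | q < E.n ∧ E.val π x q = q}) => M.map q hq.1]
    exact h6
  · have h6 := card_mul_index ((Inn E.n T).subgroupOf S)
    rw [(index_eq_two_iff_exists_notMem_and' (H := (Inn E.n T).subgroupOf S)).2 ⟨⟨_, hx⟩, h1,
      fun b => (h5 b b.2).symm.imp (fun e => h4 e) fun e => h4 e⟩, hd.2,
      ← inf_subgroupOf_left, Nat.card_congr (subgroupOfEquivOfLe inf_le_left).toEquiv] at h6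
    rw [M.card_comap]; omega

theorem Ok.not_conj (h : Ok E T π) {x y : List ℕ} (hc : bnot (Nat.beq (pc E.K (E.fixM x))
    (pc E.K (E.fixM y))) = true) {g : Perm ℕ} (hg : g ∈ Aut E.n T) :
    g * E.val π x * g⁻¹ ≠ E.val π y := fun e => by
  have r : Rel E T π g [x] [y] [] [] [] [] := ⟨hg, fun i => by
    cases i with
    | zero => exact mul_inv_eq_iff_eq_mul.1 e
    | succ i => simp [nth_succ, nth_nil], fun _ => Aut.out hg le_rfl, fun _ _ => by simp [nth_nil]⟩
  exact (bnot_eq _).1 hc ((nbeq _ _).2 ((r.mf h 0).tp h 0).symm)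

/-! ### Transversals -/

/-- The words `L` map `p` bijectively onto the points of `C` outside `ps`. -/
noncomputable def Env.trC (E : Env) (xs : List (List ℕ)) (ps ms : List ℕ) (j p : ℕ)
    (L : List (List ℕ)) : Bool :=
  band (E.memL xs ps ms L) (band (band (Nat.blt p E.n) (tb (nth 0 ms j) p))
    (band (bnot (anyL (Nat.beq p) ps)) (band (decide (L.map fun w => E.pw w p).Nodup)
      (allBits (fun q => bor (anyL (Nat.beq q) ps) (anyL (fun w => Nat.beq (E.pw w p) q) L))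
        E.d 0 (nth 0 ms j)))))

theorem Ok.tr (h : Ok E T π) {xs : List (List ℕ)} {ps ms : List ℕ} {j p : ℕ} {L : List (List ℕ)}
    (hc : E.trC xs ps ms j p L = true) : AllIn E π (Stab E T π xs ps ms) L ∧
    (∀ g ∈ Stab E T π xs ps ms, ∃ w ∈ L, (E.val π w)⁻¹ * g ∈ Stab E T π xs (p :: ps) ms) ∧
      Nat.card (Stab E T π xs ps ms) = L.length * Nat.card (Stab E T π xs (p :: ps) ms) := by
  simp only [Env.trC, band_eq, bnot_eq, anyL_eq, nbeq, nblt, decide_eq_true_eq,
    exists_eq_right'] at hc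
  obtain ⟨h1, ⟨h2, h3⟩, h4, h5, h6⟩ := hc
  have h7 := h.memL h1
  have h8 : ∀ g ∈ Stab E T π xs ps ms, ∃ w ∈ L, E.val π w p = g p := fun g hg => by
    have := of_allBits h6 ((inv_stab xs ps ms).cand h3 g hg)
    simp only [bor_eq, anyL_eq, nbeq, exists_eq_right'] at this
    rcases this with h9 | ⟨w, hw, h9⟩
    · exact absurd (g.injective (hg.2.2.1 _ h9) ▸ h9) h4
    · exact ⟨w, hw, h.pw w h2 ▸ h9⟩
  refine ⟨h7, fun g hg => ?_, ?_⟩
  · obtain ⟨w, hw, e⟩ := h8 g hg
    rw [stab_cons]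
    exact ⟨w, hw, Subgroup.mul_mem _ (Subgroup.inv_mem _ (h7 w hw)) hg, by
      change ((E.val π w)⁻¹ * g) p = p
      rw [Perm.mul_apply, ← e]; simp⟩
  · rw [card_orbit_mul _ p, ← stab_cons, ← List.length_map (fun w => E.pw w p),
      ← List.toFinset_card_of_nodup h5, ← Set.ncard_coe_finset]
    congr 2
    ext q
    simp only [Set.mem_ofPred_eq, List.coe_toFinset, List.mem_map, h.pw _ h2]
    constructor
    · rintro ⟨g, hg, rfl⟩; exact h8 g hg
    · rintro ⟨w, hw, rfl⟩; exact ⟨_, h7 w hw, rfl⟩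

/-! ### Products of commuting transpositions -/

/-- The sublist selected by the bits of `m`. -/
noncomputable def subM (l : List ℕ) : ℕ → List ℕ :=
  List.rec (motive := fun _ => ℕ → List ℕ) (fun _ => []) (fun a _ ih m =>
    bif' (Nat.beq (Nat.mod m 2) 0) (ih (Nat.div m 2)) (a :: ih (Nat.div m 2))) l

theorem Ok.exists_subM (h : Ok E T π) {l : List ℕ}
    (hl : ∀ a ∈ l, ∀ b ∈ l, E.lt π a * E.lt π b = E.lt π b * E.lt π a) {g : Perm ℕ}
    (hg : g ∈ genW E π (l.map fun a => [a])) : ∃ m < 2 ^ l.length, E.val π (subM l m) = g := by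
  induction l generalizing g with
  | nil => exact ⟨0, by simp, by simpa [genW, eq_comm, subM] using hg⟩
  | cons a l ih =>
    have e : E.val π [a] = E.lt π a := by rw [Env.val_cons, Env.val_nil, mul_one]
    have h1 : genW E π (l.map fun a => [a]) ≤ centralizer {E.lt π a} := genW_le.2 fun w hw => by
      obtain ⟨b, hb, rfl⟩ := List.mem_map.1 hw
      rw [Env.val_cons, Env.val_nil, mul_one]
      exact mem_centralizer_singleton_iff.2 (hl b (List.mem_cons_of_mem _ hb) a List.mem_cons_self)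
    rw [genW, List.map_cons, closure_cons (E.val π), e] at hg
    obtain ⟨c, hc, b, hb, rfl⟩ := mem_sup_of_comm (fun c hc b hb => by
      rcases mem_zpowers_sq (h.lt_sq a) hc with rfl | rfl
      · simp
      · exact (mem_centralizer_singleton_iff.1 (h1 hb)).symm) hg
    obtain ⟨m, hm, rfl⟩ := ih (fun b hb c hc => hl b (List.mem_cons_of_mem _ hb) c
      (List.mem_cons_of_mem _ hc)) hb
    have k : ∀ i < 2, subM (a :: l) (2 * m + i) = if i = 0 then subM l m else a :: subM l m := by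
      intro i hi
      change bif' (Nat.beq ((2 * m + i) % 2) 0) (subM l ((2 * m + i) / 2))
        (a :: subM l ((2 * m + i) / 2)) = _
      rw [bif'_eq, show (2 * m + i) % 2 = i by omega, show (2 * m + i) / 2 = m by omega]
      simp only [nbeq]
    rw [List.length_cons, pow_succ]
    rcases mem_zpowers_sq (h.lt_sq a) hc with rfl | rfl
    · exact ⟨2 * m + 0, by omega, by rw [k 0 (by omega), one_mul]; rfl⟩
    · exact ⟨2 * m + 1, by omega, by rw [k 1 (by omega)]; exact Env.val_cons _ _ _ _⟩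

/-- `x` times a product of the letters `l` is not an involution or conjugate to a word of `rs`. -/
noncomputable def Env.vC (E : Env) (x l : List ℕ) (rs : List (List ℕ)) (cs : List (List ℕ × ℕ))
    (k m : ℕ) : Bool :=
  bif' (Nat.blt m k) (band (Nat.blt (nth ([], 0) cs m).2 rs.length)
    (E.eqw (appendL (nth ([], 0) cs m).1 (appendL x (subM l m)))
      (appendL (nth [] rs (nth ([], 0) cs m).2) (nth ([], 0) cs m).1)))
    (E.new (powW (appendL x (subM l m)) 2) [])

theorem Ok.of_vC (h : Ok E T π) {x l : List ℕ} {rs : List (List ℕ)} {cs : List (List ℕ × ℕ)}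
    {k m : ℕ} (hc : E.vC x l rs cs k m = true) {t : Perm ℕ}
    (ht : t = E.val π x * E.val π (subM l m)) (h2 : t * t = 1) :
    ∃ g ∈ Aut E.n T, ∃ u ∈ rs, g * t * g⁻¹ = E.val π u := by
  rw [Env.vC, bif'_eq] at hc
  split_ifs at hc
  · rw [band_eq, nblt] at hc
    have := h.eqw hc.2
    rw [Env.val_appendL, Env.val_appendL, Env.val_appendL, ← ht] at this
    exact ⟨_, h.val_aut _, _, nth_mem _ _ _ hc.1, mul_inv_eq_iff_eq_mul.2 this⟩
  · exact absurd (by rw [Env.val_powW, Env.val_appendL, ← ht, pow_two, h2]; rfl) (h.new hc)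

/-- On the points `bl`, the word `w` is inner, not an involution, or conjugate to `x`. -/
noncomputable def Env.cosC (E : Env) (x bl zs : List ℕ) (hs : List (List ℕ)) (w : List ℕ) : Bool :=
  bor (Ok0.innW w) (bor
    (anyL (fun z => frc (E.pw w z) fun y => band (anyL (Nat.beq y) bl) (bnot (Nat.beq (E.pw w y) z)))
      bl)
    (anyL (fun u => allL (fun z => frc (E.pwi u z) fun y => band (anyL (Nat.beq y) bl)
      (Nat.beq (E.pw u (E.pw w y)) (E.pw x z))) zs) hs))

theorem Ok.of_cosC (h : Ok E T π) {x bl zs ps ms w : List ℕ} {hs : List (List ℕ)}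
    (hc : E.cosC x bl zs hs w = true) (hb : ∀ z ∈ bl, z < E.n) (hz : ∀ z ∈ zs, z < E.n)
    (hh : AllIn E π (Stab E T π [] ps ms) (x :: hs)) {t v : Perm ℕ} (ht : t ∈ Stab E T π [] ps ms)
    (e : t = E.val π w * v) (hv : v ∈ Inn E.n T) (hv' : ∀ z ∈ bl, v z = z) (h1 : t ∉ Inn E.n T)
    (h2 : t * t = 1) :
    ∃ g ∈ Aut E.n T, (E.val π x)⁻¹ * (g * t * g⁻¹) ∈ Stab E T π [] (zs ++ ps) ms := by
  simp only [Env.cosC, bor_eq, anyL_eq, allL_eq, frc_eq, band_eq, bnot_eq, nbeq,
    exists_eq_right'] at hc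
  have k : ∀ z ∈ bl, t z = E.pw w z := fun z hz => by
    rw [e, Perm.mul_apply, hv' z hz, h.pw w (hb z hz)]
  rcases hc with h3 | ⟨z, h3, h4, h5⟩ | ⟨u, h3, h4⟩
  · exact absurd (e ▸ mul_mem (h.val_inn h3) hv) h1
  · exact absurd (by rw [← k _ h4, ← k _ h3, ← Perm.mul_apply, h2]; rfl) h5
  · have h5 := hh u (List.mem_cons_of_mem _ h3)
    have h6 := mul_mem (inv_mem (hh x List.mem_cons_self)) (mul_mem (mul_mem h5 ht) (inv_mem h5))
    refine ⟨_, h.val_aut u, h6.1, h6.2.1, fun z h7 => (List.mem_append.1 h7).elim (fun h7 => ?_)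
      (h6.2.2.1 z), h6.2.2.2⟩
    obtain ⟨h8, h9⟩ := h4 z h7
    rw [← k _ h8, h.pw u (Aut.lt ht.1 (hb _ h8)), h.pwi u (hz z h7), h.pw x (hz z h7)] at h9
    rw [Perm.mul_apply, Perm.inv_eq_iff_eq, ← h9]; rfl

/-! ### Homomorphisms from coordinates -/

theorem exists_hom_of_index {G₂ ι : Type*} [Group G₂] {P : Set ι} {σ₁ : ι → G} {σ₂ : ι → G₂}
    (h : ∀ p ∈ P, ∀ q ∈ P, ∃ r ∈ P, σ₁ p * σ₁ q * (σ₁ p)⁻¹ = σ₁ r ∧ σ₂ p * σ₂ q * (σ₂ p)⁻¹ = σ₂ r)
    (hi : Set.InjOn σ₁ P) (s : ∀ p ∈ P, (σ₁ p)⁻¹ = σ₁ p) (hg : closure (σ₂ '' P) = ⊤)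
    (hZ : center G₂ = ⊥) : ∃ f : closure (σ₁ '' P) →* G₂, Function.Surjective f ∧
      ∀ g : closure (σ₁ '' P), ∀ q ∈ P, ∃ r ∈ P,
        g * σ₁ q * (g : G)⁻¹ = σ₁ r ∧ f g * σ₂ q * (f g)⁻¹ = σ₂ r := by
  let R : G → G₂ → Prop := fun g k =>
    ∀ q ∈ P, ∃ r ∈ P, g * σ₁ q * g⁻¹ = σ₁ r ∧ k * σ₂ q * k⁻¹ = σ₂ r
  have hm : ∀ g k g' k', R g k → R g' k' → R (g * g') (k * k') := fun g k g' k' a b q hq => by
    obtain ⟨r, hr, e1, e2⟩ := b q hq
    obtain ⟨r', hr', e3, e4⟩ := a r hr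
    exact ⟨r', hr', by rw [← e3, ← e1]; group, by rw [← e4, ← e2]; group⟩
  have hex : ∀ g : closure (σ₁ '' P), ∃ k, R g k := fun ⟨g, hg⟩ => by
    induction hg using closure_induction_left with
    | one => exact ⟨1, fun q hq => ⟨q, hq, by simp, by simp⟩⟩
    | mul_left x hx y _ ih =>
      obtain ⟨p, hp, rfl⟩ := hx
      exact ih.elim fun k hk => ⟨_, hm _ _ _ _ (h p hp) hk⟩
    | inv_mul_cancel x hx y _ ih =>
      obtain ⟨p, hp, rfl⟩ := hx
      exact ih.elim fun k hk => ⟨_, hm _ _ _ _ ((s p hp).symm ▸ h p hp) hk⟩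
  have hu : ∀ g k k', R g k → R g k' → k = k' := fun g k k' a b => by
    have : closure (σ₂ '' P) ≤ centralizer {k'⁻¹ * k} := (closure_le _).2 (by
      rintro _ ⟨q, hq, rfl⟩
      obtain ⟨r, hr, e1, e2⟩ := a q hq
      obtain ⟨r', hr', e3, e4⟩ := b q hq
      obtain rfl := hi hr hr' (e1.symm.trans e3)
      refine mem_centralizer_singleton_iff.2 ?_
      calc σ₂ q * (k'⁻¹ * k) = k'⁻¹ * (k' * σ₂ q * k'⁻¹) * k := by group
        _ = k'⁻¹ * k * σ₂ q := by rw [e4, ← e2]; group)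
    have h1 : k'⁻¹ * k ∈ center G₂ := mem_center_iff.2 fun y =>
      mem_centralizer_singleton_iff.1 (this (hg ▸ mem_top y))
    rw [hZ, mem_bot, inv_mul_eq_one] at h1
    exact h1.symm
  choose F hF using hex
  refine ⟨MonoidHom.mk' F fun a b => hu _ _ _ (hF _) (hm _ _ _ _ (hF a) (hF b)), ?_, hF⟩
  rw [← MonoidHom.range_eq_top, eq_top_iff, ← hg, closure_le]
  rintro _ ⟨p, hp, rfl⟩
  exact ⟨⟨_, subset_closure ⟨p, hp, rfl⟩⟩, hu _ _ _ (hF _) (h p hp)⟩

/-- The digit `p` of the table. -/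
def dg6 (tab p : ℕ) : ℕ := Nat.land (Nat.shiftRight tab (Nat.mul 6 p)) 63

theorem dg6_lt (tab p : ℕ) : dg6 tab p < 64 := Nat.lt_succ_of_le Nat.and_le_right

/-- The table gives the points of `Y` codes compatible with `op`; each good code is attained, at
most twice. -/
noncomputable def Env.cdC (E : Env) (tab Y : ℕ) (op : ℕ → ℕ → ℕ) (ok : ℕ → Bool)
    (i1 i2 : List ℕ) : Bool :=
  band (allN (fun c => bor (bnot (ok c)) (band (tb Y (nth 0 i1 c)) (Nat.beq (dg6 tab (nth 0 i1 c)) c)))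
    64) (allBits (fun p => band (Nat.blt p E.n) (frc (dg6 tab p) fun c => band (ok c)
      (band (bor (Nat.beq p (nth 0 i1 c)) (Nat.beq p (nth 0 i2 c)))
        (allBits (fun q => frc (E.t p q) fun r => band (tb Y r)
          (Nat.beq (dg6 tab r) (op (dg6 tab q) c))) E.d 0 Y)))) E.d 0 Y)

theorem FM.coord_hom (M : FM G D E.n T) (h : Ok E T π) {tab Y : ℕ} {op : ℕ → ℕ → ℕ}
    {ok : ℕ → Bool} {i1 i2 : List ℕ} (hc : E.cdC tab Y op ok i1 i2 = true) {G₂ V : Type*} [Group G₂]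
    [AddCommGroup V] [Module (ZMod 2) V] {b : V → V → ZMod 2} {S : Set V} {τ : V → G₂} {D₂ : Set G₂}
    (hC : Coord b S τ D₂) (hg : closure D₂ = ⊤) (hZ : center G₂ = ⊥) (dec : ℕ → V)
    (h1 : ∀ c < 64, ok c = true → dec c ∈ S) (h2 : ∀ v ∈ S, ∃ c < 64, ok c = true ∧ dec c = v)
    (h3 : ∀ a < 64, ∀ c < 64, dec (op a c) = dec a + b (dec a) (dec c) • dec c)
    (h4 : ∀ a < 64, ∀ c < 64, dec a = dec c → a = c) {z : G} (hz : z * z = 1)
    (hz' : ∀ p, Y.testBit p = true → z * M.τ p = M.τ p * z) :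
    ∃ f : closure ((fun p => z * M.τ p) '' {p | Y.testBit p = true}) →* G₂, Function.Surjective f ∧
      ∀ g, f g = 1 → ∀ q, Y.testBit q = true → Commute ((g : G) * g) (z * M.τ q) := by
  rw [Env.cdC, band_eq, allN_eq] at hc
  have k := fun p (hp : Y.testBit p = true) => of_allBits hc.2 hp
  simp only [frc_eq, band_eq, bor_eq, nblt, nbeq] at k
  have kS : ∀ p, Y.testBit p = true → dec (dg6 tab p) ∈ S := fun p hp =>
    h1 _ (dg6_lt _ _) (k p hp).2.1
  have hi : Set.InjOn (fun p => z * M.τ p) {p | Y.testBit p = true} := fun p hp q hq e =>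
    M.τ_inj (k p hp).1 (k q hq).1 (mul_left_cancel e)
  obtain ⟨f, hf, hf'⟩ := exists_hom_of_index (σ₂ := fun p => τ (dec (dg6 tab p))) (fun p hp q hq => by
    have a := of_allBits (k p hp).2.2.2 hq
    rw [band_eq, nbeq, tb_eq] at a
    refine ⟨_, a.1, ?_, ?_⟩
    · rw [h.t (k p hp).1 (k q hq).1, ← M.map p (k p hp).1, ← M.conj _ (k q hq).1]
      have c1 : Commute z (M.τ p) := hz' p hp
      have c2 : Commute z (M.τ q) := hz' q hq
      calc _ = z * (M.τ p * z * M.τ q * (M.τ p)⁻¹ * z⁻¹) := by group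
        _ = z * (z * (M.τ p * M.τ q * (M.τ p)⁻¹) * z⁻¹) := by rw [← c1.eq]; group
        _ = _ := by
          congr 1
          rw [((c1.mul_right c2).mul_right c1.inv_right).eq, mul_inv_cancel_right]
    · rw [a.2, h3 _ (dg6_lt _ _) _ (dg6_lt _ _), hC.op _ (kS p hp) _ (kS q hq),
        hC.tt.inv (hC.mem _ (kS p hp))]) hi (fun p hp => inv_eq_of_mul_eq_one_right (by
      rw [mul_assoc, ← mul_assoc (M.τ p), ← hz' p hp, mul_assoc, M.τ_sq (k p hp).1, mul_one, hz]))
    (by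
      rw [eq_top_iff, ← hg]
      refine closure_mono fun d hd => ?_
      obtain ⟨v, hv, rfl⟩ := hC.surj d hd
      obtain ⟨c, h5, h6, rfl⟩ := h2 v hv
      have a := ((bor_eq _ _).1 (hc.1 c h5)).resolve_left fun e => (bnot_eq _).1 e h6
      rw [band_eq, nbeq, tb_eq] at a
      exact ⟨_, a.1, by simp only [a.2]⟩) hZ
  refine ⟨f, hf, fun g hg q hq => ?_⟩
  have a : ∀ q, Y.testBit q = true → ∃ r, Y.testBit r = true ∧
      g * (z * M.τ q) * (g : G)⁻¹ = z * M.τ r ∧ dg6 tab q = dg6 tab r := fun q hq => by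
    obtain ⟨r, hr, e1, e2⟩ := hf' g q hq
    rw [hg, one_mul, inv_one, mul_one] at e2
    obtain ⟨c, e3⟩ := (hC.inj _ (kS q hq) _ (kS r hr)).1 e2
    refine ⟨r, hr, e1, h4 _ (dg6_lt _ _) _ (dg6_lt _ _) ?_⟩
    rcases (by decide : ∀ c : ZMod 2, c = 0 ∨ c = 1) c with rfl | rfl
    · exact absurd (e3.trans (zero_smul _ _)) (hC.ne_zero _ (kS q hq))
    · rw [e3, one_smul]
  obtain ⟨r, hr, e1, e2⟩ := a q hq
  obtain ⟨s, hs, e3, e4⟩ := a r hr
  have : s = q := by
    have b1 := (k q hq).2.2.1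
    have b2 := (k r hr).2.2.1
    have b3 := (k s hs).2.2.1
    rw [← e4] at b3
    rw [← e2] at b2 b3
    by_cases c1 : r = s
    · rw [← c1] at e3 ⊢
      exact hi hr hq (by simpa using e3.trans e1.symm)
    by_cases c2 : q = r
    · rw [← c2] at e1 e3
      exact hi hs hq (e3.symm.trans e1)
    omega
  rw [this, ← e1] at e3
  exact mul_inv_eq_iff_eq_mul.1 (by simpa [mul_assoc] using e3)

end Cfsg.Agent.TT.Pt
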